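import Cfsg.Agent.AppC.Core

/-!
Rigidity, purity and the symmetry of the norm one pairs (Bender–Glauberman, Appendix C).
-/

set_option autoImplicit false

namespace Cfsg.Agent.AppC.Config

variable {G F : Type*} [Group G] [Finite G] [Field F] [Finite F] {p q : ℕ} [hp : Fact p.Prime]
  [Algebra (ZMod p) F] (C : Config G F p q)

local notation "ι" => algebraMap (ZMod p) F

theorem one_lt_card (hq : 2 ≤ q) : 1 < Nat.card C.U := by
  by_contra h
  have h1 := C.U_card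
  have hpos : 0 < Nat.card C.U := Nat.card_pos
  rw [show Nat.card C.U = 1 by omega, one_mul] at h1
  have h2 : p ^ 1 < p ^ q := Nat.pow_lt_pow_right hp.out.one_lt hq
  rw [pow_one] at h2
  have h3 := hp.out.two_le
  generalize hx : p ^ q = x at h1 h2
  omega

include C in
theorem ringHom_eq_id (hq : q.Prime) (hpq : p ≠ q) (σ : F →+* F) (hσ : ∀ a, σ^[p] a = a) (a : F) :
    σ a = a := by
  classical
  haveI : Fintype F := Fintype.ofFinite F
  have hc : ∀ r, σ (algebraMap (ZMod p) F r) = algebraMap (ZMod p) F r := fun r =>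
    RingHom.congr_fun (Subsingleton.elim (σ.comp (algebraMap (ZMod p) F)) (algebraMap (ZMod p) F)) r
  let τ : F →ₐ[ZMod p] F := { σ with commutes' := hc }
  let e : Gal(F/ZMod p) := AlgEquiv.ofBijective τ (Finite.injective_iff_bijective.1 σ.injective)
  have hpow : ∀ n : ℕ, ∀ x, (e ^ n) x = σ^[n] x := by
    intro n
    induction n with
    | zero => intro x; rfl
    | succ n ih => intro x; rw [pow_succ, AlgEquiv.mul_apply, ih, Function.iterate_succ_apply]; rfl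
  have h1 : e ^ p = 1 := AlgEquiv.ext fun x => (hpow p x).trans (hσ x)
  have h2 : orderOf e ∣ q := by
    have := orderOf_dvd_natCard e
    rwa [IsGalois.card_aut_eq_finrank, C.finrank_eq] at this
  have h3 : e = 1 := orderOf_eq_one_iff.1 (Nat.eq_one_of_dvd_coprimes
    ((Nat.coprime_primes hp.out hq).2 hpq) (orderOf_dvd_of_pow_eq_one h1) h2)
  exact AlgEquiv.congr_fun h3 a

theorem ι_ne_zero {k : ZMod p} (hk : k ≠ 0) : ι k ≠ 0 := by
  rwa [ne_eq, map_eq_zero]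

/-- `PU` meets its conjugate by a non-trivial `T n` only in `U`. -/
theorem key (hq : q.Prime) (hpq : p ≠ q) {n : ZMod p} (hn : n ≠ 0) {h : G} (hh : C.InH h)
    (hh' : C.InH (C.T (-n) * h * C.T n)) : h ∈ C.U := by
  classical
  obtain ⟨x, u, hu, rfl⟩ := hh
  rcases eq_or_ne x 0 with rfl | hx
  · rwa [C.g_zero, one_mul]
  exfalso
  let K : F → Prop := fun z => C.InH (C.T (-n) * C.g z * C.T n)
  have Kadd : ∀ a b, K a → K b → K (a + b) := fun a b ha hb => by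
    have := C.inH_mul ha hb
    show C.InH _
    convert this using 1
    rw [C.g_add, C.T_neg]; group
  have K0 : K 0 := by
    show C.InH _
    rw [C.g_zero, mul_one, C.T_neg, inv_mul_cancel]
    exact C.inH_U C.U.one_mem
  have KU : ∀ a, K a → ∀ v ∈ C.U, K (C.ψ v * a) := fun a ha v hv => by
    have := C.inH_mul (C.inH_mul (C.inH_U (C.θ_mem n hv)) ha) (C.inH_U (C.θ_mem n (C.U.inv_mem hv)))
    show C.InH _
    convert this using 1
    unfold θ
    rw [← C.g_conj v hv, C.T_neg]; group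
  have Kx : K x := by
    have := C.inH_mul hh' (C.inH_U (C.U.inv_mem (C.θ_mem n hu)))
    show C.InH _
    convert this using 1
    unfold θ
    rw [C.T_neg]; group
  have Kk : ∀ k : ℕ, ∀ a, K a → K ((k : F) * a) := by
    intro k a ha
    induction k with
    | zero => simpa using K0
    | succ k ih => have := Kadd _ _ ih ha; convert this using 1; push_cast; ring
  have Kall : ∀ a, K a := fun a => by
    rcases eq_or_ne a 0 with rfl | ha
    · exact K0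
    obtain ⟨k, -, v, hv, he⟩ := C.decomp (div_ne_zero ha hx)
    have := Kk k.val _ (KU x Kx v hv)
    convert this using 1
    rw [← map_natCast (algebraMap (ZMod p) F), ZMod.natCast_zmod_val, ← mul_assoc, ← he, div_mul_cancel₀ _ hx]
  have hP : ∀ a, ∃ b, C.T (-n) * C.g a * C.T n = C.g b := by
    intro a
    obtain ⟨b, v, hv, he⟩ := Kall a
    refine ⟨b, ?_⟩
    have hpow : (C.g b * v) ^ p = 1 := by
      rw [← he, C.T_neg]
      calc ((C.T n)⁻¹ * C.g a * C.T n) ^ p = ((C.T n)⁻¹ * C.g a * (C.T n)⁻¹⁻¹) ^ p := by rw [inv_inv]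
        _ = 1 := by rw [conj_pow, C.g_pow_p]; group
    have key : ∀ k : ℕ, ∃ c, (C.g b * v) ^ k = C.g c * v ^ k := by
      intro k
      induction k with
      | zero => exact ⟨0, by simp [C.g_zero]⟩
      | succ k ih =>
        obtain ⟨c, hc⟩ := ih
        refine ⟨c + C.ψ (v ^ k) * b, ?_⟩
        rw [pow_succ, hc, C.g_add, mul_assoc, ← mul_assoc (v ^ k), C.move (pow_mem hv k), pow_succ]
        group
    obtain ⟨c, hc⟩ := key p
    rw [hpow] at hc
    have h2 := C.normal_inj C.U.one_mem (pow_mem hv p) (by rw [← hc, C.g_zero, one_mul] : C.g 0 * 1 = C.g c * v ^ p)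
    rw [he, eq_one_of_pow C.copp hv h2.2.symm, mul_one]
  choose L hL using hP
  have L_add : ∀ a b, L (a + b) = L a + L b := fun a b => C.g_inj (by
    rw [C.g_add, ← hL, ← hL, ← hL, C.g_add, C.T_neg]; group)
  have L_zero : L 0 = 0 := by have := L_add 0 0; rw [add_zero] at this; exact left_eq_add.1 this
  have L_mul : ∀ v ∈ C.U, ∀ a, L (C.ψ v * a) = C.ψ (C.θ n v) * L a := fun v hv a => C.g_inj (by
    rw [← C.g_conj _ (C.θ_mem n hv), ← hL, ← hL, ← C.g_conj v hv]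
    unfold θ; rw [C.T_neg]; group)
  let La : F →+ F := { toFun := L, map_zero' := L_zero, map_add' := L_add }
  have L_k : ∀ (k : ZMod p) a, L (ι k * a) = ι k * L a := fun k a => by
    rw [← ZMod.natCast_zmod_val k, map_natCast, ← nsmul_eq_mul, ← nsmul_eq_mul]
    exact La.map_nsmul _ _
  have L_inj : Function.Injective L := fun a b e => C.g_inj (by
    have := (hL a).trans ((congrArg C.g e).trans (hL b).symm)
    exact mul_left_cancel (mul_right_cancel this))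
  set c := L 1 with hc
  have hc0 : c ≠ 0 := fun e => one_ne_zero (L_inj (e.trans L_zero.symm))
  let σ : F →+* F :=
    { toFun := fun a => L a / c
      map_one' := div_self hc0
      map_zero' := by simp [L_zero]
      map_add' := fun a b => by rw [L_add, add_div]
      map_mul' := fun a b => by
        rcases eq_or_ne a 0 with rfl | ha
        · simp [L_zero]
        obtain ⟨k, hk, v, hv, rfl⟩ := C.decomp ha
        have h1 : L (ι k * C.ψ v) = ι k * (C.ψ (C.θ n v) * c) := by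
          rw [L_k, hc]
          conv_lhs => rw [← mul_one (C.ψ v), L_mul v hv]
        rw [mul_assoc (ι k), L_k, L_mul v hv, h1]
        field_simp }
  have hLσ : ∀ a, L a = c * σ a := fun a => by
    show L a = c * (L a / c); rw [mul_div_cancel₀ _ hc0]
  have hit : ∀ i : ℕ, ∃ d, ∀ a, L^[i] a = d * σ^[i] a := by
    intro i
    induction i with
    | zero => exact ⟨1, fun a => by simp⟩
    | succ i ih =>
      obtain ⟨d, hd⟩ := ih
      refine ⟨c * σ d, fun a => ?_⟩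
      rw [Function.iterate_succ_apply', hd, Function.iterate_succ_apply', hLσ, map_mul, mul_assoc]
  have hLp : ∀ a, L^[p] a = a := fun a => C.g_inj (by
    have : ∀ i : ℕ, C.T (-n) ^ i * C.g a * (C.T (-n) ^ i)⁻¹ = C.g (L^[i] a) := by
      intro i
      induction i with
      | zero => simp
      | succ i ih =>
        rw [Function.iterate_succ_apply', ← hL, ← ih, pow_succ', C.T_neg]; group
    have h := this p
    rw [C.T_pow_p, one_mul, inv_one, mul_one] at h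
    exact h.symm)
  obtain ⟨d, hd⟩ := hit p
  have hd1 : d = 1 := by
    have := hd 1; rw [hLp, ← RingHom.coe_pow, map_one, mul_one] at this; exact this.symm
  have hσ : ∀ a, σ a = a := C.ringHom_eq_id hq hpq σ fun a => by
    have := hd a; rwa [hLp, hd1, one_mul, eq_comm] at this
  have hLc : ∀ a, L a = c * a := fun a => by rw [hLσ, hσ]
  have hcp : c ^ p = 1 := by
    have : ∀ i : ℕ, L^[i] 1 = c ^ i := by
      intro i
      induction i with
      | zero => simp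
      | succ i ih => rw [Function.iterate_succ_apply', ih, hLc, pow_succ']
    rw [← this p]; exact hLp 1
  have hc1 : c = 1 := by
    haveI : CharP F p := charP_of_injective_algebraMap (algebraMap (ZMod p) F).injective p
    haveI : ExpChar F p := ExpChar.prime hp.out
    have : (c - 1) ^ p = 0 := by rw [sub_pow_expChar, hcp, one_pow, sub_self]
    exact sub_eq_zero.1 (pow_eq_zero_iff hp.out.ne_zero |>.1 this)
  have hcomm : Commute (C.T n) (C.S n) := by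
    have := hL (ι n)
    rw [hLc, hc1, one_mul, C.T_neg] at this
    show C.T n * C.g (ι n) = C.g (ι n) * C.T n
    calc C.T n * C.g (ι n) = C.T n * ((C.T n)⁻¹ * C.g (ι n) * C.T n) := by rw [this]
      _ = C.g (ι n) * C.T n := by group
  have hD : (C.D 0 n : G) = C.T n * (C.S n)⁻¹ := by rw [C.conv' n]; group
  have hD1 : (C.D 0 n : G) = 1 := eq_one_of_pow C.Q_cop (C.D 0 n).2 (by
    rw [hD, (hcomm.inv_right).mul_pow, C.T_pow_p, inv_pow]
    show 1 * (C.g (ι n) ^ p)⁻¹ = 1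
    rw [C.g_pow_p, inv_one, mul_one])
  rw [hD, mul_inv_eq_one] at hD1
  exact hn (C.T_mem_H (C.one_lt_card hq.two_le) (hD1 ▸ C.inH_S n))

theorem two_block (hq : q.Prime) (hpq : p ≠ q) {m m' n n' : ZMod p}
    (h : C.S m * C.T n = C.T n' * C.S m') : n = n' ∧ (n ≠ 0 → m = 0) := by
  have hU := C.one_lt_card hq.two_le
  rcases eq_or_ne n' 0 with hn' | hn'
  · subst hn'
    rw [C.T_zero, one_mul] at h
    have : C.InH (C.T n) := by
      rw [show C.T n = (C.S m)⁻¹ * C.S m' by rw [← h]; group]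
      exact C.inH_mul (C.inH_inv (C.inH_S m)) (C.inH_S m')
    have hn := C.T_mem_H hU this
    exact ⟨hn, fun e => absurd hn e⟩
  obtain ⟨v, hv, hv1⟩ := C.exists_ne_one hU
  set c := C.S m' * v * (C.S m')⁻¹ with hc
  have hcH : C.InH c := C.inH_mul (C.inH_mul (C.inH_S m') (C.inH_U hv)) (C.inH_inv (C.inH_S m'))
  have hcH' : C.InH (C.T (- -n') * c * C.T (-n')) := by
    rw [neg_neg, C.T_neg, show C.T n' * c * (C.T n')⁻¹
      = (C.T n' * C.S m') * v * (C.T n' * C.S m')⁻¹ by rw [hc]; group, ← h]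
    have : C.InH (C.T n * v * (C.T n)⁻¹) := by
      have := C.θ_mem (-n) hv
      unfold θ at this; rw [neg_neg, C.T_neg] at this
      exact C.inH_U this
    have := C.inH_mul (C.inH_mul (C.inH_S m) this) (C.inH_inv (C.inH_S m))
    convert this using 1; group
  have hcU := C.key hq hpq (neg_ne_zero.2 hn') hcH hcH'
  have hm' : m' = 0 := by
    rw [hc, mul_assoc, ← C.S_neg] at hcU
    unfold S at hcU
    rw [C.move hv, ← mul_assoc, ← C.g_add] at hcU
    have h2 : C.g (ι m' + C.ψ v * ι (-m')) ∈ C.U := by simpa using C.U.mul_mem hcU (C.U.inv_mem hv)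
    have h3 := C.g_not_mem_U h2
    rw [map_neg] at h3
    have h4 : ι m' * (1 - C.ψ v) = 0 := by rw [← h3]; ring
    rcases mul_eq_zero.1 h4 with h5 | h5
    · exact (map_eq_zero _).1 h5
    · exact absurd (C.mem_eq_one hv (sub_eq_zero.1 h5).symm) hv1
  rw [hm', C.S_zero, mul_one] at h
  have h2 : C.InH (C.T (n' - n)) := by
    rw [sub_eq_add_neg, C.T_add, C.T_neg, ← h, mul_inv_cancel_right]
    exact C.inH_S m
  have h3 : n' = n := sub_eq_zero.1 (C.T_mem_H hU h2)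
  refine ⟨h3.symm, fun _ => ?_⟩
  rw [h3] at h
  exact (map_eq_zero _).1 (C.g_inj ((mul_eq_right.1 h).trans C.g_zero.symm))

theorem D_inj (hq : q.Prime) (hpq : p ≠ q) {a b c d : ZMod p} (h : C.D a b = C.D c d) :
    (a = b ∧ c = d) ∨ (a = c ∧ b = d) := by
  have h1 := congrArg Subtype.val h
  rw [C.D_val, C.D_val] at h1
  have h2 : C.S (-c + a) * C.T (b - a) = C.T (d - c) * C.S (-d + b) := by
    rw [C.S_add, C.S_add, C.S_neg, C.S_neg]
    rw [C.S_neg, C.S_neg] at h1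
    calc (C.S c)⁻¹ * C.S a * C.T (b - a) = (C.S c)⁻¹ * (C.S a * C.T (b - a) * (C.S b)⁻¹) * C.S b := by group
      _ = C.T (d - c) * ((C.S d)⁻¹ * C.S b) := by rw [h1]; group
  obtain ⟨h3, h4⟩ := C.two_block hq hpq h2
  rcases eq_or_ne (b - a) 0 with h5 | h5
  · exact Or.inl ⟨(sub_eq_zero.1 h5).symm, (sub_eq_zero.1 (h3 ▸ h5)).symm⟩
  · have h6 : a = c := by linear_combination h4 h5
    exact Or.inr ⟨h6, by linear_combination h3 + h6⟩

/-- A three syllable word. -/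
def loop (k1 k2 k3 : ZMod p) (y1 y2 y3 : G) : G :=
  C.S k1 * C.T (-2) * y1 * C.S k2 * C.T 1 * y2 * C.S k3 * C.T 1 * y3

theorem loop_unique (hq : q.Prime) (hpq : p ≠ q) {k1 k2 k3 : ZMod p} (hk2 : k2 ≠ 0) (hk3 : k3 ≠ 0)
    {y1 y2 y3 z1 z2 z3 : G} (hy1 : y1 ∈ C.U) (hy2 : y2 ∈ C.U) (hy3 : y3 ∈ C.U)
    (hz1 : z1 ∈ C.U) (hz2 : z2 ∈ C.U) (hz3 : z3 ∈ C.U)
    (h : C.loop k1 k2 k3 y1 y2 y3 = C.loop k1 k2 k3 z1 z2 z3) : y1 = z1 ∧ y2 = z2 ∧ y3 = z3 := by
  set a := y1 * C.S k2 with ha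
  set a' := z1 * C.S k2 with ha'
  set b := y2 * C.S k3 * C.θ (-1) y3 with hb
  set b' := z2 * C.S k3 * C.θ (-1) z3 with hb'
  have h1 : a'⁻¹ * a * C.T 1 = C.T 1 * (b' * b⁻¹) := by
    have e : a * C.T 1 * b * C.T 1 = a' * C.T 1 * b' * C.T 1 := by
      apply mul_left_cancel (a := C.S k1 * C.T (-2))
      unfold loop at h
      rw [ha, hb, ha', hb']
      unfold θ
      rw [neg_neg, C.T_neg 1]
      calc _ = C.S k1 * C.T (-2) * y1 * C.S k2 * C.T 1 * y2 * C.S k3 * C.T 1 * y3 := by group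
        _ = _ := by rw [h]; group
    have e' := mul_right_cancel e
    calc a'⁻¹ * a * C.T 1 = a'⁻¹ * (a * C.T 1 * b) * b⁻¹ := by group
      _ = C.T 1 * (b' * b⁻¹) := by rw [e']; group
  have hH : C.InH (a'⁻¹ * a) :=
    C.inH_mul (C.inH_inv (C.inH_mul (C.inH_U hz1) (C.inH_S _))) (C.inH_mul (C.inH_U hy1) (C.inH_S _))
  have hH' : C.InH (C.T (-1) * (a'⁻¹ * a) * C.T 1) := by
    rw [mul_assoc, h1, C.T_neg, inv_mul_cancel_left]
    exact C.inH_mul (C.inH_mul (C.inH_mul (C.inH_U hz2) (C.inH_S _)) (C.inH_U (C.θ_mem _ hz3)))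
      (C.inH_inv (C.inH_mul (C.inH_mul (C.inH_U hy2) (C.inH_S _)) (C.inH_U (C.θ_mem _ hy3))))
  have hc := C.key hq hpq one_ne_zero hH hH'
  have e1 : y1 * C.S k2 * 1 = z1 * C.S k2 * (a'⁻¹ * a) := by
    rw [mul_one, ← ha, ← ha']; group
  obtain ⟨r1, -, r2⟩ := C.left_unique hy1 hz1 C.U.one_mem hc hk2 e1
  rw [← r2, one_mul] at h1
  have e2 : b' * b⁻¹ = 1 := (mul_eq_left.1 h1.symm)
  rw [mul_inv_eq_one] at e2
  obtain ⟨r3, -, r4⟩ := C.left_unique hy2 hz2 (C.θ_mem _ hy3) (C.θ_mem _ hz3) hk3 e2.symm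
  refine ⟨r1, r3, ?_⟩
  have := congrArg (C.θ 1) r4
  rwa [C.θ_θ, C.θ_θ, neg_add_cancel, C.θ_zero, C.θ_zero] at this

theorem pattern (hq : q.Prime) (hpq : p ≠ q) {k1 k2 k3 : ZMod p} (hk1 : k1 ≠ 0)
    (h : C.loop k1 k2 k3 1 1 1 = 1) : k1 = 1 := by
  unfold loop at h
  simp only [mul_one] at h
  set a := k1 + -2 + k2 with ha
  have e1 : C.S k1 * C.T (-2) * C.S k2 * C.T 1 * C.S k3 * C.T 1
      = ((C.D k1 (k1 + -2) * C.D a (a + 1) * C.D (a + 1 + k3) (a + 1 + k3 + 1) : C.Q) : G)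
        * C.S (a + 1 + k3 + 1) := by
    calc C.S k1 * C.T (-2) * C.S k2 * C.T 1 * C.S k3 * C.T 1
        = (C.D k1 (k1 + -2) : G) * (C.S (k1 + -2) * C.S k2) * C.T 1 * C.S k3 * C.T 1 := by
          rw [C.conv k1]; group
      _ = (C.D k1 (k1 + -2) : G) * (C.S a * C.T 1) * C.S k3 * C.T 1 := by rw [← C.S_add, ha]; group
      _ = (C.D k1 (k1 + -2) : G) * (C.D a (a + 1) : G) * (C.S (a + 1) * C.S k3) * C.T 1 := by
          rw [C.conv a]; group
      _ = (C.D k1 (k1 + -2) : G) * (C.D a (a + 1) : G) * (C.S (a + 1 + k3) * C.T 1) := by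
          rw [← C.S_add]; group
      _ = _ := by rw [C.conv]; push_cast; group
  rw [e1] at h
  have hS : C.S (a + 1 + k3 + 1) ∈ C.Q := by
    rw [eq_inv_of_mul_eq_one_right h]; exact C.Q.inv_mem (Subtype.mem _)
  have hsum : a + 1 + k3 + 1 = 0 := C.S_Q hS
  have hQ : C.D k1 (k1 + -2) * C.D a (a + 1) * C.D (a + 1 + k3) (a + 1 + k3 + 1) = 1 :=
    Subtype.ext (by
      have h' := h
      rw [show C.S (a + 1 + k3 + 1) = 1 by rw [hsum, C.S_zero], mul_one] at h'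
      exact h')
  letI : CommGroup C.Q := { (inferInstance : Group C.Q) with mul_comm := C.Q_mul_comm }
  let X : ZMod p → C.Q := fun i =>
    (C.Y (i + a) * C.Y (i + -1)) * (C.Y (i + (k1 - 2)) * C.Y (i + (k1 - 1)))⁻¹
  -- translate the relation by conjugation
  have hshift : ∀ i u v : ZMod p, (C.D (i + u) (i + v) : G) = C.S i * (C.D u v : G) * (C.S i)⁻¹ := by
    intro i u v
    show (C.S (i + u) * C.y * (C.S (i + u))⁻¹) * (C.S (i + v) * C.y * (C.S (i + v))⁻¹)⁻¹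
      = C.S i * ((C.S u * C.y * (C.S u)⁻¹) * (C.S v * C.y * (C.S v)⁻¹)⁻¹) * (C.S i)⁻¹
    rw [C.S_add, C.S_add]; group
  have hrel : ∀ i, C.D (i + k1) (i + (k1 + -2)) * C.D (i + a) (i + (a + 1))
      * C.D (i + (a + 1 + k3)) (i + (a + 1 + k3 + 1)) = 1 := fun i => Subtype.ext (by
    push_cast
    rw [hshift, hshift, hshift]
    have := congrArg Subtype.val hQ
    push_cast at this
    calc _ = C.S i * ((C.D k1 (k1 + -2) : G) * (C.D a (a + 1) : G)
        * (C.D (a + 1 + k3) (a + 1 + k3 + 1) : G)) * (C.S i)⁻¹ := by group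
      _ = 1 := by rw [this]; group)
  have hconst : ∀ i, X i = X (i + 1) := fun i => by
    have := hrel i
    have e : X i * (X (i + 1))⁻¹ = 1 := by
      rw [← this]
      show (C.Y (i + a) * C.Y (i + -1)) * (C.Y (i + (k1 - 2)) * C.Y (i + (k1 - 1)))⁻¹ *
        ((C.Y (i + 1 + a) * C.Y (i + 1 + -1)) * (C.Y (i + 1 + (k1 - 2)) * C.Y (i + 1 + (k1 - 1)))⁻¹)⁻¹ =
        C.Y (i + k1) * (C.Y (i + (k1 + -2)))⁻¹ * (C.Y (i + a) * (C.Y (i + (a + 1)))⁻¹) *
        (C.Y (i + (a + 1 + k3)) * (C.Y (i + (a + 1 + k3 + 1)))⁻¹)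
      rw [show i + (a + 1 + k3 + 1) = i by rw [hsum, add_zero],
        show i + (a + 1 + k3) = i + -1 by linear_combination hsum,
        show i + 1 + -1 = i by ring, show i + 1 + (k1 - 1) = i + k1 by ring,
        show i + 1 + (k1 - 2) = i + (k1 - 1) by ring, show i + (k1 + -2) = i + (k1 - 2) by ring,
        show i + (a + 1) = i + 1 + a by ring]
      apply Additive.ofMul.injective
      simp only [ofMul_mul, ofMul_inv]
      abel
    exact mul_inv_eq_one.1 e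
  have hconst' : ∀ n : ℕ, X (n : ZMod p) = X 0 := by
    intro n
    induction n with
    | zero => simp
    | succ n ih => rw [← ih, hconst (n : ZMod p)]; push_cast; ring_nf
  have hprod : ∏ i, X i = 1 := by
    have sh : ∀ c : ZMod p, ∏ i, C.Y (i + c) = ∏ i, C.Y i := fun c =>
      Equiv.prod_comp (Equiv.addRight c) C.Y
    simp only [X, Finset.prod_mul_distrib, Finset.prod_inv_distrib, sh, mul_inv_cancel]
  have hX0 : X 0 = 1 := by
    have hp' : (X 0) ^ p = 1 := by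
      rw [← hprod, Finset.prod_congr rfl (fun i _ => (by rw [← ZMod.natCast_zmod_val i]; exact hconst' _ : X i = X 0)),
        Finset.prod_const, Finset.card_univ, ZMod.card]
    exact Subtype.ext (eq_one_of_pow C.Q_cop (X 0).2 (by rw [← SubmonoidClass.coe_pow, hp']; rfl))
  have hD : C.D a (k1 - 1) = C.D (k1 - 2) (-1) := by
    simp only [X, zero_add, mul_inv_eq_one] at hX0
    show C.Y a * (C.Y (k1 - 1))⁻¹ = C.Y (k1 - 2) * (C.Y (-1))⁻¹
    rw [mul_inv_eq_iff_eq_mul, mul_right_comm, eq_mul_inv_iff_mul_eq]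
    exact hX0
  rcases C.D_inj hq hpq hD with ⟨h1, h2⟩ | ⟨h1, h2⟩
  · linear_combination h2
  · exact absurd (by linear_combination h2 : k1 = 0) hk1

theorem sub_ne_zero' {a b : ZMod p} (hab : a ≠ b) {u : G} (hu : u ∈ C.U) :
    ι a + C.ψ u * ι (-b) ≠ 0 := by
  intro h
  rw [map_neg] at h
  rcases eq_or_ne a 0 with rfl | ha
  · rw [map_zero, zero_add, mul_neg, neg_eq_zero] at h
    exact mul_ne_zero (C.ψ_ne u hu) (ι_ne_zero hab.symm) h
  have h' : ι a * C.ψ 1 = ι b * C.ψ u := by rw [C.ψ_one]; linear_combination h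
  exact hab (C.scal_unit_inj C.U.one_mem hu ha h').1

theorem block (a b : ZMod p) {u : G} (hu : u ∈ C.U) {k : ZMod p} {v : G} (hv : v ∈ C.U)
    (he : ι a + C.ψ u * ι (-b) = ι k * C.ψ v) :
    C.S a * u * C.S (-b) = v * C.S k * (v⁻¹ * u) := by
  unfold S
  rw [mul_assoc, C.move hu, ← mul_assoc, ← C.g_add, he, C.move hv, mul_comm]
  group

/-- The set of norm one pairs. -/
def IsE (u : G) : Prop := u ∈ C.U ∧ ∃ v ∈ C.U, C.ψ u + C.ψ v = 2

theorem loop_eq {k1 k2 k3 : ZMod p} {A B W v1 v2 v3 : G} (hA : A ∈ C.U) (hB : B ∈ C.U) (hW : W ∈ C.U)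
    (h1 : v1 ∈ C.U) (h2 : v2 ∈ C.U) (h3 : v3 ∈ C.U)
    (e1 : ι 2 + C.ψ A⁻¹ * ι (-1) = ι k1 * C.ψ v1)
    (e2 : ι 3 + C.ψ B⁻¹ * ι (-2) = ι k2 * C.ψ v2)
    (e3 : ι 1 + C.ψ W⁻¹ * ι (-3) = ι k3 * C.ψ v3)
    (h : C.S 2 * A⁻¹ * C.S (-1) * C.T (-2) * (C.S 3 * B⁻¹ * C.S (-2)) * C.T 1
      * (C.S 1 * W⁻¹ * C.S (-3)) * C.T 1 = 1) :
    C.loop k1 k2 k3 (C.θ (-2) (v1⁻¹ * A⁻¹) * v2) (C.θ 1 (v2⁻¹ * B⁻¹) * v3)
      (C.θ 1 (v3⁻¹ * W⁻¹) * v1) = 1 := by
  have p1 : C.S 2 * A⁻¹ * C.S (-1) = v1 * C.S k1 * (v1⁻¹ * A⁻¹) := C.block 2 1 (C.U.inv_mem hA) h1 e1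
  rw [p1, C.block 3 2 (C.U.inv_mem hB) h2 e2, C.block 1 3 (C.U.inv_mem hW) h3 e3] at h
  unfold loop θ
  rw [neg_neg, C.T_neg 1, C.T_neg 2]
  rw [C.T_neg 2] at h
  calc _ = v1⁻¹ * (v1 * C.S k1 * (v1⁻¹ * A⁻¹) * (C.T 2)⁻¹ * (v2 * C.S k2 * (v2⁻¹ * B⁻¹)) * C.T 1
        * (v3 * C.S k3 * (v3⁻¹ * W⁻¹)) * C.T 1) * v1 := by group
    _ = 1 := by rw [h]; group

theorem base_eq {u v : G} (hu : u ∈ C.U) (hv : v ∈ C.U) (he : C.ψ u + C.ψ v = 2) :
    C.S 2 * (C.θ 3 u)⁻¹ * C.S (-1) * C.T (-2) * (C.S 3 * (C.θ 1 v⁻¹)⁻¹ * C.S (-2)) * C.T 1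
      * (C.S 1 * (C.θ 2 (u⁻¹ * v))⁻¹ * C.S (-3)) * C.T 1 = 1 := by
  have hs : u * C.S 1 * (u⁻¹ * v) * C.S 1 * v⁻¹ = C.S 2 := by
    unfold S
    calc _ = (u * C.g (ι 1) * u⁻¹) * (v * C.g (ι 1) * v⁻¹) := by group
      _ = C.g (ι 2) := by
        rw [C.g_conj u hu, C.g_conj v hv, ← C.g_add, ← add_mul, he, map_one, mul_one, map_ofNat]
  have r2 : C.T 3 * C.S (-1) * C.T (-2) * C.S 3 * C.T (-1) = C.S 2 := C.rel 3 (-1) 2 (by norm_num)
  have r1 : C.T 3 * C.S (-2) * C.T (-1) * C.S 3 * C.T (-2) = C.S 1 := C.rel 3 (-2) 1 (by norm_num)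
  have r1' : C.T 2 * C.S (-1) * C.T (-1) * C.S 2 * C.T (-1) = C.S 1 := C.rel 2 (-1) 1 (by norm_num)
  conv at hs => rhs; rw [← r2]
  conv at hs => lhs; rw [← r1]; arg 1; arg 2; rw [r1, ← r1']
  unfold θ
  simp only [C.T_neg, C.S_neg, neg_neg] at hs ⊢
  rw [← mul_inv_eq_one] at hs
  generalize C.S 1 = s1, C.S 2 = s2, C.S 3 = s3, C.T 1 = t1, C.T 2 = t2, C.T 3 = t3 at hs ⊢
  have hs' := congrArg (fun z => (s2 * s2⁻¹) * z) hs
  calc _ = (s2 * (t3⁻¹ * u * t3)⁻¹ * s1⁻¹) * t2⁻¹ * (s3 * (t1⁻¹ * v⁻¹ * t1)⁻¹ * s2⁻¹) * t1 * (s1 * (t2⁻¹ * (u⁻¹ * v) * t2)⁻¹ * s3⁻¹) * t1 := by group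
    _ = 1 := by
      have := congrArg (fun z => (s2 * t3⁻¹ * u⁻¹) * z⁻¹ * (s2 * t3⁻¹ * u⁻¹)⁻¹) hs
      simp only [inv_one, mul_one, mul_inv_cancel] at this
      rw [← this]
      group

theorem E_map (hq : q.Prime) (hpq : p ≠ q) (hp5 : 5 ≤ p) {u : G} (hu : C.IsE u) :
    C.IsE (C.θ 3 u)⁻¹ := by
  classical
  haveI : CharP F p := charP_of_injective_algebraMap (algebraMap (ZMod p) F).injective p
  obtain ⟨hu, v, hv, he⟩ := hu
  set A := C.θ 3 u with hAdef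
  set B := C.θ 1 v⁻¹ with hBdef
  set W := C.θ 2 (u⁻¹ * v) with hWdef
  have hA : A ∈ C.U := C.θ_mem _ hu
  have hB : B ∈ C.U := C.θ_mem _ (C.U.inv_mem hv)
  have hW : W ∈ C.U := C.θ_mem _ (C.U.mul_mem (C.U.inv_mem hu) hv)
  have ne21 : (2 : ZMod p) ≠ 1 := fun e => one_ne_zero (by linear_combination e : (1 : ZMod p) = 0)
  have ne32 : (3 : ZMod p) ≠ 2 := fun e => one_ne_zero (by linear_combination e : (1 : ZMod p) = 0)
  have ne13 : (1 : ZMod p) ≠ 3 := fun e => by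
    have : ((2 : ℕ) : ZMod p) = 0 := by push_cast; linear_combination -e
    rw [ZMod.natCast_eq_zero_iff] at this
    exact absurd (Nat.le_of_dvd two_pos this) (by omega)
  obtain ⟨k1, hk1, v1, hv1, e1⟩ := C.decomp (C.sub_ne_zero' ne21 (C.U.inv_mem hA))
  obtain ⟨k2, hk2, v2, hv2, e2⟩ := C.decomp (C.sub_ne_zero' ne32 (C.U.inv_mem hB))
  obtain ⟨k3, hk3, v3, hv3, e3⟩ := C.decomp (C.sub_ne_zero' ne13 (C.U.inv_mem hW))
  have frob : ∀ (a b k : ZMod p) (x z : G), x ∈ C.U → z ∈ C.U →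
      ι a + C.ψ x * ι b = ι k * C.ψ z → ι a + C.ψ (x ^ p) * ι b = ι k * C.ψ (z ^ p) := by
    intro a b k x z hx hz h
    haveI : ExpChar F p := ExpChar.prime hp.out
    have := congrArg (fun r => r ^ p) h
    simp only [add_pow_expChar, mul_pow, ← map_pow, ZMod.pow_card] at this
    rwa [C.ψ_pow hx, C.ψ_pow hz]
  have l1 := C.loop_eq hA hB hW hv1 hv2 hv3 e1 e2 e3 (C.base_eq hu hv he)
  have he' : C.ψ (u ^ p) + C.ψ (v ^ p) = 2 := by
    haveI : ExpChar F p := ExpChar.prime hp.out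
    rw [C.ψ_pow hu, C.ψ_pow hv, ← add_pow_expChar, he, ← map_ofNat (algebraMap (ZMod p) F) 2, ← map_pow,
      ZMod.pow_card]
  have hb := C.base_eq (pow_mem hu p) (pow_mem hv p) he'
  have q1 : C.θ 3 (u ^ p) = A ^ p := C.θ_pow _ _ _
  have q2 : C.θ 1 (v ^ p)⁻¹ = B ^ p := by rw [← inv_pow, C.θ_pow]
  have q3 : C.θ 2 ((u ^ p)⁻¹ * v ^ p) = W ^ p := by
    rw [C.θ_mul, ← inv_pow, C.θ_pow, C.θ_pow, hWdef, C.θ_mul]
    refine ((?_ : Commute _ _).mul_pow p).symm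
    exact C.U_commute _ (C.θ_mem _ (C.U.inv_mem hu)) _ (C.θ_mem _ hv)
  rw [q1, q2, q3] at hb
  have l2 := C.loop_eq (pow_mem hA p) (pow_mem hB p) (pow_mem hW p) (pow_mem hv1 p) (pow_mem hv2 p)
    (pow_mem hv3 p) (by rw [← inv_pow]; exact frob _ _ _ _ _ (C.U.inv_mem hA) hv1 e1)
    (by rw [← inv_pow]; exact frob _ _ _ _ _ (C.U.inv_mem hB) hv2 e2)
    (by rw [← inv_pow]; exact frob _ _ _ _ _ (C.U.inv_mem hW) hv3 e3) hb
  have hUc : ∀ a ∈ C.U, ∀ b ∈ C.U, Commute a b := C.U_commute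
  set y1 := C.θ (-2) (v1⁻¹ * A⁻¹) * v2 with hy1
  set y2 := C.θ 1 (v2⁻¹ * B⁻¹) * v3 with hy2
  set y3 := C.θ 1 (v3⁻¹ * W⁻¹) * v1 with hy3
  have m1 : y1 ∈ C.U := C.U.mul_mem (C.θ_mem _ (C.U.mul_mem (C.U.inv_mem hv1) (C.U.inv_mem hA))) hv2
  have m2 : y2 ∈ C.U := C.U.mul_mem (C.θ_mem _ (C.U.mul_mem (C.U.inv_mem hv2) (C.U.inv_mem hB))) hv3
  have m3 : y3 ∈ C.U := C.U.mul_mem (C.θ_mem _ (C.U.mul_mem (C.U.inv_mem hv3) (C.U.inv_mem hW))) hv1
  have expand : ∀ (m : ZMod p) (a b c : G), a ∈ C.U → b ∈ C.U → c ∈ C.U →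
      C.θ m ((a ^ p)⁻¹ * (b ^ p)⁻¹) * c ^ p = (C.θ m (a⁻¹ * b⁻¹) * c) ^ p := by
    intro m a b c ha hb hc
    rw [(hUc _ (C.θ_mem m (C.U.mul_mem (C.U.inv_mem ha) (C.U.inv_mem hb))) _ hc).mul_pow, ← C.θ_pow,
      (hUc _ (C.U.inv_mem ha) _ (C.U.inv_mem hb)).mul_pow, inv_pow, inv_pow]
  rw [expand _ _ _ _ hv1 hA hv2, expand _ _ _ _ hv2 hB hv3, expand _ _ _ _ hv3 hW hv1, ← hy1, ← hy2, ← hy3] at l2
  obtain ⟨r1, r2, r3⟩ := C.loop_unique hq hpq hk2 hk3 (pow_mem m1 p) (pow_mem m2 p) (pow_mem m3 p) m1 m2 m3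
    (l2.trans l1.symm)
  have fix1 : ∀ y ∈ C.U, y ^ p = y → y = 1 := by
    intro y hy h
    refine C.pow_pred_card hy ?_
    have h' : y ^ (p - 1) = 1 := by
      have e : y ^ (p - 1) * y = y := by
        rw [← pow_succ, Nat.sub_add_cancel hp.out.one_le, h]
      exact mul_eq_right.1 e
    rw [← C.ψ_pow hy, h', C.ψ_one]
  rw [fix1 y1 m1 r1, fix1 y2 m2 r2, fix1 y3 m3 r3] at l1
  have hk : k1 = 1 := C.pattern hq hpq hk1 l1
  rw [hk, map_one, one_mul, map_neg, map_one, mul_neg, mul_one, map_ofNat] at e1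
  exact ⟨C.U.inv_mem hA, v1, hv1, by linear_combination -e1⟩

/-- The norm one pairs are closed under inversion. -/
theorem E_inv (hq : q.Prime) (hpq : p ≠ q) (hp5 : 5 ≤ p) {u : G} (hu : C.IsE u) : C.IsE u⁻¹ := by
  have key : ∀ j : ℕ, C.IsE (C.θ (6 * j : ℕ) u) ∧ C.IsE (C.θ (6 * j + 3 : ℕ) u)⁻¹ := by
    intro j
    have step : ∀ j : ℕ, C.IsE (C.θ (6 * j : ℕ) u) → C.IsE (C.θ (6 * j + 3 : ℕ) u)⁻¹ := by
      intro j h
      have := C.E_map hq hpq hp5 h
      rw [C.θ_θ] at this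
      push_cast at this ⊢
      exact this
    induction j with
    | zero => exact ⟨by simpa [C.θ_zero] using hu, step 0 (by simpa [C.θ_zero] using hu)⟩
    | succ j ih =>
      have h := C.E_map hq hpq hp5 ih.2
      rw [C.θ_inv, inv_inv, C.θ_θ] at h
      have h' : C.IsE (C.θ (6 * (j + 1) : ℕ) u) := by
        convert h using 2; push_cast; ring
      exact ⟨h', step _ h'⟩
  obtain ⟨j, hj⟩ : Odd p := hp.out.odd_of_ne_two (by omega)
  have := (key j).2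
  rw [show 6 * j + 3 = 3 * p by omega, Nat.cast_mul, ZMod.natCast_self, mul_zero, C.θ_zero] at this
  exact this

end Cfsg.Agent.AppC.Config
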