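import Mathlib

/-!
The field configuration of Bender–Glauberman, Appendix C: the group theoretic part
(symmetry of the set of norm one pairs).
-/

set_option autoImplicit false

namespace Cfsg.Agent.AppC

/-- The configuration; `g` parametrises `P` by the field and `ψ` identifies `U` with a subgroup of `Fˣ`. -/
structure Config (G F : Type*) [Group G] [Field F] (p q : ℕ) [Algebra (ZMod p) F] where
  U : Subgroup G
  Q : Subgroup G
  g : F → G
  ψ : G → F
  y : G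
  g_add : ∀ a b, g (a + b) = g a * g b
  g_inj : Function.Injective g
  g_conj : ∀ u ∈ U, ∀ a, u * g a * u⁻¹ = g (ψ u * a)
  ψ_mul : ∀ u ∈ U, ∀ v ∈ U, ψ (u * v) = ψ u * ψ v
  ψ_inj : Set.InjOn ψ (U : Set G)
  ψ_ne : ∀ u ∈ U, ψ u ≠ 0
  U_card : Nat.card U * (p - 1) = p ^ q - 1
  cop : (Nat.card U).Coprime (p - 1)
  copp : (Nat.card U).Coprime p
  Q_comm : IsMulCommutative Q
  Q_cop : (Nat.card Q).Coprime p
  P0_norm : ∀ m : ZMod p, g (algebraMap (ZMod p) F m) ∈ Subgroup.normalizer (Q : Set G)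
  y_mem : y ∈ Q
  T_norm : ∀ m : ZMod p, y * g (algebraMap (ZMod p) F m) * y⁻¹ ∈ Subgroup.normalizer (U : Set G)
  finrank_eq : Module.finrank (ZMod p) F = q

namespace Config

variable {G F : Type*} [Group G] [Finite G] [Field F] [Finite F] {p q : ℕ} [hp : Fact p.Prime]
  [Algebra (ZMod p) F] (C : Config G F p q)

local notation "ι" => algebraMap (ZMod p) F

/-- Powers of the distinguished element of `P`. -/
def S (m : ZMod p) : G := C.g (ι m)

/-- Their conjugates by `y`. -/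
def T (m : ZMod p) : G := C.y * C.S m * C.y⁻¹

theorem g_zero : C.g 0 = 1 := by
  have h := C.g_add 0 0
  rw [add_zero] at h
  exact left_eq_mul.1 h

theorem g_neg (a : F) : C.g (-a) = (C.g a)⁻¹ :=
  eq_inv_of_mul_eq_one_left (by rw [← C.g_add, neg_add_cancel, C.g_zero])

theorem S_add (a b : ZMod p) : C.S (a + b) = C.S a * C.S b := by
  unfold S; rw [map_add, C.g_add]

theorem S_zero : C.S 0 = 1 := by unfold S; rw [map_zero, C.g_zero]

theorem S_neg (a : ZMod p) : C.S (-a) = (C.S a)⁻¹ := by unfold S; rw [map_neg, C.g_neg]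

theorem T_add (a b : ZMod p) : C.T (a + b) = C.T a * C.T b := by
  unfold T; rw [C.S_add]; group

theorem T_zero : C.T 0 = 1 := by simp [T, C.S_zero]

theorem T_neg (a : ZMod p) : C.T (-a) = (C.T a)⁻¹ := by
  unfold T; rw [C.S_neg]; group

theorem g_pow (a : F) (n : ℕ) : C.g a ^ n = C.g ((n : F) * a) := by
  induction n with
  | zero => simp [C.g_zero]
  | succ n ih => rw [pow_succ, ih, ← C.g_add]; congr 1; push_cast; ring

theorem g_pow_p (a : F) : C.g a ^ p = 1 := by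
  haveI : CharP F p := charP_of_injective_algebraMap (algebraMap (ZMod p) F).injective p
  rw [C.g_pow, CharP.cast_eq_zero, zero_mul, C.g_zero]

theorem T_pow_p (m : ZMod p) : C.T m ^ p = 1 := by
  unfold T S; rw [conj_pow, C.g_pow_p]; group

theorem eq_one_of_pow {H : Subgroup G} (hH : (Nat.card H).Coprime p) {x : G} (hx : x ∈ H)
    (h : x ^ p = 1) : x = 1 := by
  have h1 : orderOf x ∣ Nat.card H := Subgroup.orderOf_dvd_natCard H hx
  have h2 : orderOf x ∣ p := orderOf_dvd_of_pow_eq_one h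
  exact orderOf_eq_one_iff.1 (Nat.eq_one_of_dvd_coprimes hH h1 h2)

theorem ψ_one : C.ψ 1 = 1 := by
  have h := C.ψ_mul 1 C.U.one_mem 1 C.U.one_mem
  rw [one_mul] at h
  have h1 := C.ψ_ne 1 C.U.one_mem
  field_simp at h
  exact h.symm

theorem ψ_inv {u : G} (hu : u ∈ C.U) : C.ψ u⁻¹ = (C.ψ u)⁻¹ := by
  refine eq_inv_of_mul_eq_one_left ?_
  rw [← C.ψ_mul _ (C.U.inv_mem hu) _ hu, inv_mul_cancel, C.ψ_one]

theorem ψ_pow {u : G} (hu : u ∈ C.U) (n : ℕ) : C.ψ (u ^ n) = C.ψ u ^ n := by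
  induction n with
  | zero => simp [C.ψ_one]
  | succ n ih => rw [pow_succ, C.ψ_mul _ (pow_mem hu n) _ hu, ih, pow_succ]

theorem mem_eq_one {u : G} (hu : u ∈ C.U) (h : C.ψ u = 1) : u = 1 :=
  C.ψ_inj hu C.U.one_mem (by rw [h, C.ψ_one])

theorem g_not_mem_U {a : F} (h : C.g a ∈ C.U) : a = 0 := by
  have := eq_one_of_pow (p := p) C.copp h (C.g_pow_p a)
  exact C.g_inj (this.trans C.g_zero.symm)

theorem move {u : G} (hu : u ∈ C.U) (a : F) : u * C.g a = C.g (C.ψ u * a) * u := by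
  rw [← C.g_conj u hu a]; group

theorem pow_pred_card {u : G} (hu : u ∈ C.U) (h : C.ψ u ^ (p - 1) = 1) : u = 1 := by
  have h1 : u ^ (p - 1) = 1 := C.mem_eq_one (pow_mem hu _) (by rw [C.ψ_pow hu, h])
  have h2 : orderOf u ∣ Nat.card C.U := Subgroup.orderOf_dvd_natCard C.U hu
  exact orderOf_eq_one_iff.1 (Nat.eq_one_of_dvd_coprimes C.cop h2 (orderOf_dvd_of_pow_eq_one h1))

theorem ι_pow_pred {m : ZMod p} (hm : m ≠ 0) : (ι m) ^ (p - 1) = 1 := by
  rw [← map_pow, ZMod.pow_card_sub_one_eq_one hm, map_one]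

theorem scal_unit_inj {k k' : ZMod p} {u v : G} (hu : u ∈ C.U) (hv : v ∈ C.U) (hk : k ≠ 0)
    (h : ι k * C.ψ u = ι k' * C.ψ v) : k = k' ∧ u = v := by
  have hk' : k' ≠ 0 := by
    rintro rfl
    rw [map_zero, zero_mul] at h
    rcases mul_eq_zero.1 h with h | h
    · exact hk ((algebraMap (ZMod p) F).injective (h.trans (map_zero _).symm))
    · exact C.ψ_ne u hu h
  have huv : u * v⁻¹ = 1 := by
    refine C.pow_pred_card (C.U.mul_mem hu (C.U.inv_mem hv)) ?_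
    rw [C.ψ_mul _ hu _ (C.U.inv_mem hv), C.ψ_inv hv]
    have := congrArg (fun z => z ^ (p - 1)) h
    simp only [mul_pow, ι_pow_pred hk, ι_pow_pred hk', one_mul] at this
    rw [mul_pow, inv_pow, ← this, mul_inv_cancel₀ (pow_ne_zero _ (C.ψ_ne u hu))]
  rw [mul_inv_eq_one] at huv
  subst huv
  exact ⟨(algebraMap (ZMod p) F).injective (mul_right_cancel₀ (C.ψ_ne u hu) h), rfl⟩

theorem decomp {a : F} (ha : a ≠ 0) : ∃ k : ZMod p, k ≠ 0 ∧ ∃ u ∈ C.U, a = ι k * C.ψ u := by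
  classical
  let D := {k : ZMod p // k ≠ 0} × C.U
  let m : D → {a : F // a ≠ 0} := fun d => ⟨ι d.1.1 * C.ψ d.2,
    mul_ne_zero (fun h => d.1.2 ((algebraMap (ZMod p) F).injective (h.trans (map_zero _).symm))) (C.ψ_ne _ d.2.2)⟩
  have hinj : Function.Injective m := by
    rintro ⟨⟨k, hk⟩, ⟨u, hu⟩⟩ ⟨⟨k', hk'⟩, ⟨v, hv⟩⟩ h
    obtain ⟨rfl, rfl⟩ := C.scal_unit_inj hu hv hk (congrArg Subtype.val h)
    rfl
  have hF : Nat.card F = p ^ q := by
    rw [Module.natCard_eq_pow_finrank (K := ZMod p), C.finrank_eq, Nat.card_zmod]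
  have hcard : Nat.card D = Nat.card {a : F // a ≠ 0} := by
    rw [Nat.card_prod, ← Nat.card_congr (unitsEquivNeZero : (ZMod p)ˣ ≃ {a : ZMod p // a ≠ 0}),
      ← Nat.card_congr (unitsEquivNeZero : Fˣ ≃ {a : F // a ≠ 0}), Nat.card_units, Nat.card_units, Nat.card_zmod, hF,
      mul_comm, C.U_card]
  obtain ⟨d, hd⟩ := ((Nat.bijective_iff_injective_and_card m).2 ⟨hinj, hcard⟩).2 ⟨a, ha⟩
  exact ⟨d.1.1, d.1.2, d.2.1, d.2.2, (congrArg Subtype.val hd).symm⟩

theorem U_commute : ∀ a ∈ C.U, ∀ b ∈ C.U, Commute a b := fun a ha b hb =>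
  C.ψ_inj (C.U.mul_mem ha hb) (C.U.mul_mem hb ha) (by rw [C.ψ_mul a ha b hb, C.ψ_mul b hb a ha, mul_comm])

/-- Membership in `PU`. -/
def InH (h : G) : Prop := ∃ a : F, ∃ u ∈ C.U, h = C.g a * u

theorem inH_U {u : G} (hu : u ∈ C.U) : C.InH u := ⟨0, u, hu, by rw [C.g_zero, one_mul]⟩

theorem inH_g (a : F) : C.InH (C.g a) := ⟨a, 1, C.U.one_mem, (mul_one _).symm⟩

theorem inH_S (m : ZMod p) : C.InH (C.S m) := C.inH_g _

theorem inH_mul {a b : G} (ha : C.InH a) (hb : C.InH b) : C.InH (a * b) := by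
  obtain ⟨x, u, hu, rfl⟩ := ha
  obtain ⟨z, v, hv, rfl⟩ := hb
  refine ⟨x + C.ψ u * z, u * v, C.U.mul_mem hu hv, ?_⟩
  rw [C.g_add, mul_assoc (C.g x) u, ← mul_assoc u, C.move hu]
  group

theorem inH_inv {a : G} (ha : C.InH a) : C.InH a⁻¹ := by
  obtain ⟨x, u, hu, rfl⟩ := ha
  rw [mul_inv_rev, ← C.g_neg]
  exact C.inH_mul (C.inH_U (C.U.inv_mem hu)) (C.inH_g _)

theorem normal_inj {a b : F} {u v : G} (hu : u ∈ C.U) (hv : v ∈ C.U)
    (h : C.g a * u = C.g b * v) : a = b ∧ u = v := by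
  have h1 : C.g (-b + a) = v * u⁻¹ := by
    rw [C.g_add, C.g_neg, eq_mul_inv_iff_mul_eq, mul_assoc, h, inv_mul_cancel_left]
  have h2 := C.g_not_mem_U (h1 ▸ C.U.mul_mem hv (C.U.inv_mem hu))
  have h3 : a = b := (neg_add_eq_zero.1 h2).symm
  exact ⟨h3, mul_left_cancel (h3 ▸ h)⟩

theorem left_unique {v v' w w' : G} {k k' : ZMod p} (hv : v ∈ C.U) (hv' : v' ∈ C.U) (hw : w ∈ C.U)
    (hw' : w' ∈ C.U) (hk : k ≠ 0) (h : v * C.S k * w = v' * C.S k' * w') : v = v' ∧ k = k' ∧ w = w' := by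
  unfold S at h
  rw [C.move hv, C.move hv', mul_assoc, mul_assoc] at h
  obtain ⟨h1, h2⟩ := C.normal_inj (C.U.mul_mem hv hw) (C.U.mul_mem hv' hw') h
  rw [mul_comm, mul_comm (C.ψ v')] at h1
  obtain ⟨rfl, rfl⟩ := C.scal_unit_inj hv hv' hk h1
  exact ⟨rfl, rfl, mul_left_cancel h2⟩

theorem exists_ne_one (h : 1 < Nat.card C.U) : ∃ u ∈ C.U, u ≠ 1 := by
  rw [Subgroup.one_lt_card_iff_ne_bot] at h
  exact (Subgroup.ne_bot_iff_exists_ne_one.1 h).elim fun u hu => ⟨u.1, u.2, fun e => hu (Subtype.ext e)⟩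

/-- The action of `T` on `U`. -/
def θ (m : ZMod p) (u : G) : G := C.T (-m) * u * C.T m

theorem θ_mem (m : ZMod p) {u : G} (hu : u ∈ C.U) : C.θ m u ∈ C.U := by
  have h := (Subgroup.mem_normalizer_iff.1 (C.T_norm (-m)) u).1 hu
  have e : C.θ m u = C.T (-m) * u * (C.T (-m))⁻¹ := by unfold θ; rw [C.T_neg m, inv_inv]
  rw [e]; exact h

theorem θ_mul (m : ZMod p) (u v : G) : C.θ m (u * v) = C.θ m u * C.θ m v := by
  unfold θ; rw [C.T_neg]; group

theorem θ_inv (m : ZMod p) (u : G) : C.θ m u⁻¹ = (C.θ m u)⁻¹ := by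
  unfold θ; rw [C.T_neg]; group

theorem θ_pow (m : ZMod p) (u : G) (n : ℕ) : C.θ m (u ^ n) = C.θ m u ^ n := by
  induction n with
  | zero => simp [θ, C.T_neg]
  | succ n ih => rw [pow_succ, C.θ_mul, ih, pow_succ]

theorem θ_θ (a b : ZMod p) (u : G) : C.θ b (C.θ a u) = C.θ (a + b) u := by
  unfold θ; rw [C.T_neg, C.T_neg, C.T_neg, C.T_add]; group

theorem θ_zero (u : G) : C.θ 0 u = u := by simp [θ, C.T_zero]

theorem move_T (m : ZMod p) (u : G) : u * C.T m = C.T m * C.θ m u := by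
  unfold θ; rw [C.T_neg]; group

theorem T_mem_H {n : ZMod p} (hU : 1 < Nat.card C.U) (h : C.InH (C.T n)) : n = 0 := by
  obtain ⟨a, u, hu, he⟩ := h
  have hu1 : u = 1 := by
    have key : ∀ k : ℕ, ∃ b, C.T n ^ k = C.g b * u ^ k := by
      intro k
      induction k with
      | zero => exact ⟨0, by simp [C.g_zero]⟩
      | succ k ih =>
        obtain ⟨b, hb⟩ := ih
        refine ⟨b + C.ψ (u ^ k) * a, ?_⟩
        rw [pow_succ, hb, he, C.g_add, mul_assoc, ← mul_assoc (u ^ k), C.move (pow_mem hu k), pow_succ]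
        group
    obtain ⟨b, hb⟩ := key p
    rw [C.T_pow_p] at hb
    have := C.normal_inj C.U.one_mem (pow_mem hu p) (by rw [← hb, C.g_zero, one_mul] : C.g 0 * 1 = C.g b * u ^ p)
    exact eq_one_of_pow C.copp hu this.2.symm
  rw [hu1, mul_one] at he
  obtain ⟨v, hv, hv1⟩ := C.exists_ne_one hU
  have h1 := C.θ_mem (-n) hv
  unfold θ at h1
  rw [neg_neg, C.T_neg, he, mul_assoc, ← C.g_neg, C.move hv, ← mul_assoc, ← C.g_add] at h1
  have h2 : C.g (a + C.ψ v * -a) ∈ C.U := by simpa using C.U.mul_mem h1 (C.U.inv_mem hv)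
  have h3 := C.g_not_mem_U h2
  have h4 : a * (1 - C.ψ v) = 0 := by rw [← h3]; ring
  rcases mul_eq_zero.1 h4 with ha | hb
  · rw [ha, C.g_zero] at he
    unfold T at he
    have hS : C.S n = 1 := conj_eq_one_iff.1 he
    exact (algebraMap (ZMod p) F).injective ((C.g_inj (hS.trans C.g_zero.symm)).trans (map_zero _).symm)
  · exact absurd (C.mem_eq_one hv (sub_eq_zero.1 hb).symm) hv1

/-- The elements `y_a` of `Q`. -/
def Y (a : ZMod p) : C.Q := ⟨C.S a * C.y * (C.S a)⁻¹,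
  (Subgroup.mem_normalizer_iff.1 (C.P0_norm a) C.y).1 C.y_mem⟩

/-- The quotient `y_a / y_b`. -/
def D (a b : ZMod p) : C.Q := C.Y a * (C.Y b)⁻¹

theorem D_val (a b : ZMod p) : (C.D a b : G) = C.S a * C.T (b - a) * C.S (-b) := by
  show C.S a * C.y * (C.S a)⁻¹ * (C.S b * C.y * (C.S b)⁻¹)⁻¹ = _
  unfold T; rw [sub_eq_add_neg, add_comm b, C.S_add, C.S_neg, C.S_neg]; group

theorem conv (a b : ZMod p) : C.S a * C.T b = (C.D a (a + b) : G) * C.S (a + b) := by
  rw [C.D_val, add_sub_cancel_left, C.S_neg]; group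

theorem conv' (a : ZMod p) : C.T a = (C.D 0 a : G) * C.S a := by
  have := C.conv 0 a; rwa [C.S_zero, one_mul, zero_add] at this

theorem Q_mul_comm (a b : C.Q) : a * b = b * a :=
  haveI := C.Q_comm; mul_comm' a b

theorem S_Q {m : ZMod p} (h : C.S m ∈ C.Q) : m = 0 := by
  have h1 : C.S m = 1 := eq_one_of_pow C.Q_cop h (C.g_pow_p _)
  exact (algebraMap (ZMod p) F).injective ((C.g_inj (h1.trans C.g_zero.symm)).trans (map_zero _).symm)

theorem rel (A B n : ZMod p) (h : A + B = n) :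
    C.T A * C.S B * C.T (-n) * C.S A * C.T B = C.S n := by
  have e1 : C.T A * C.S B = (C.D 0 A : G) * C.S n := by
    rw [C.conv' A, mul_assoc, ← C.S_add, h]
  have e2 : C.S n * C.T (-n) = (C.D n 0 : G) := by rw [C.conv, add_neg_cancel, C.S_zero, mul_one]
  have e3 : C.S A * C.T B = (C.D A n : G) * C.S n := by rw [C.conv, h]
  have e4 : C.D 0 A * C.D n 0 * C.D A n = 1 := by
    unfold D
    haveI := C.Q_comm
    letI : CommGroup C.Q := { (inferInstance : Group C.Q) with mul_comm := C.Q_mul_comm }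
    simp [mul_comm, mul_left_comm]
  calc C.T A * C.S B * C.T (-n) * C.S A * C.T B
      = (C.T A * C.S B) * C.T (-n) * (C.S A * C.T B) := by group
    _ = (C.D 0 A : G) * (C.S n * C.T (-n)) * ((C.D A n : G) * C.S n) := by rw [e1, e3]; group
    _ = (C.D 0 A * C.D n 0 * C.D A n : C.Q) * C.S n := by rw [e2]; push_cast; group
    _ = C.S n := by rw [e4]; simp

end Config

end Cfsg.Agent.AppC
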